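import Groth.Agent.AlgStBasic.LocQCalc
import Groth.Agent.AlgStBasic.DiagCalc
import Groth.Agent.HenselPoint.StackCharts
import Groth.Agent.AlgSp2.InfSmallExt
import Groth.Agent.Calg6.BranchCount
import Groth.Agent.AdicLinTop.RigClosed

/-!
# Smooth morphisms of etale algebraic stacks and infinitesimal lifting
-/

set_option autoImplicit false
set_option backward.isDefEq.respectTransparency false
set_option backward.isDefEq.respectTransparency.types false

universe u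

open CategoryTheory CategoryTheory.Limits AlgebraicGeometry
open Groth.StkBase Groth.AlgStBasic Groth.AlgSpBasic Groth.AlgSp2

noncomputable section

namespace Groth.StackSmooth

/-- An Artinian local ring is henselian. -/
theorem henselianLocalRing_of_isArtinian (A : Type u) [CommRing A] [IsArtinianRing A]
    [IsLocalRing A] : HenselianLocalRing A := by
  obtain ⟨n, hn⟩ := IsArtinianRing.isNilpotent_jacobson_bot (R := A)
  rw [IsLocalRing.jacobson_eq_maximalIdeal ⊥ bot_ne_top, Ideal.zero_eq_bot] at hn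
  have : IsAdicComplete (IsLocalRing.maximalIdeal A) A :=
    Groth.AdicLinTop.RigClosed.isAdicComplete_of_pow_le (I := ⊥) bot_le hn.le A
  exact Groth.Calg6.Branch.henselianLocalRing_of_isAdicComplete A

/-- A surjection of local rings with simple kernel is a small extension. -/
theorem exists_generator_of_isSimple {A A₀ : Type u} [CommRing A] [IsLocalRing A] [CommRing A₀]
    (φ : A →+* A₀) (h : IsSimpleModule A (RingHom.ker φ)) :
    ∃ t : A, RingHom.ker φ = Ideal.span {t} ∧ ∀ a ∈ IsLocalRing.maximalIdeal A, a * t = 0 := by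
  have hne : RingHom.ker φ ≠ ⊥ := fun e => by
    have := h.nontrivial
    rw [e] at this
    exact not_subsingleton (⊥ : Ideal A) inferInstance
  obtain ⟨t, ht, ht0⟩ := Submodule.exists_mem_ne_zero_of_ne_bot hne
  have hat : IsAtom (RingHom.ker φ) := isSimpleModule_iff_isAtom.1 h
  have hle : Ideal.span {t} ≤ RingHom.ker φ := (Ideal.span_singleton_le_iff_mem _).2 ht
  have hspan : RingHom.ker φ = Ideal.span {t} := by
    rcases hat.le_iff.1 hle with e | e
    · exact absurd (Ideal.span_singleton_eq_bot.1 e) ht0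
    · exact e.symm
  refine ⟨t, hspan, fun a ha => ?_⟩
  by_contra hat0
  have hle' : Ideal.span {a * t} ≤ RingHom.ker φ :=
    (Ideal.span_singleton_le_iff_mem _).2 (Ideal.mul_mem_left _ a ht)
  rcases hat.le_iff.1 hle' with e | e
  · exact hat0 (Ideal.span_singleton_eq_bot.1 e)
  · obtain ⟨c, hc⟩ := Ideal.mem_span_singleton'.1 (e ▸ ht : t ∈ Ideal.span {a * t})
    have hu : IsUnit (1 - c * a) := IsLocalRing.isUnit_one_sub_self_of_mem_nonunits _
      ((IsLocalRing.mem_maximalIdeal _).1 (Ideal.mul_mem_left _ c ha))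
    refine ht0 (hu.mul_left_eq_zero.1 ?_)
    rw [mul_sub, mul_one, mul_comm t, mul_assoc, hc, sub_self]

/-- A nonzero principal kernel killed by the maximal ideal is simple. -/
theorem isSimpleModule_of_generator {A A₀ : Type u} [CommRing A] [IsLocalRing A] [CommRing A₀]
    (φ : A →+* A₀) {t : A} (ht0 : t ≠ 0) (hspan : RingHom.ker φ = Ideal.span {t})
    (hm : ∀ a ∈ IsLocalRing.maximalIdeal A, a * t = 0) : IsSimpleModule A (RingHom.ker φ) := by
  refine isSimpleModule_iff_isAtom.2 ⟨fun e => ht0 ?_, fun J hJ => ?_⟩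
  · exact Ideal.span_singleton_eq_bot.1 (hspan.symm.trans e)
  · rw [hspan] at hJ
    refine (Submodule.eq_bot_iff J).2 fun x hx => ?_
    obtain ⟨c, rfl⟩ := Ideal.mem_span_singleton'.1 (hJ.le hx)
    by_contra hne
    have hc : IsUnit c := by
      by_contra hc
      exact hne (hm c ((IsLocalRing.mem_maximalIdeal _).2 hc))
    refine hJ.not_ge ((Ideal.span_singleton_le_iff_mem J).2 ?_)
    obtain ⟨v, hv⟩ := hc.exists_left_inv
    simpa [← mul_assoc, hv] using Ideal.mul_mem_left J v hx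

variable {S : Scheme.{u}} {𝒳 𝒴 𝒲 : AlgSt.Cat S}

/-- Equality of maps of sheaves from isomorphic functors. -/
theorem eq_of_iso_ofSpMap {F G : AlgSp.Sp S} {a b : F ⟶ G}
    (e : AlgSt.ofSpMap a ≅ AlgSt.ofSpMap b) : a = b :=
  (mapOf_ofSpMap a).symm.trans ((mapOf_congr e).trans (mapOf_ofSpMap b))

theorem nonempty_ofSpMap_comp_iso {F G H : AlgSp.Sp S} (a : F ⟶ G) (b : G ⟶ H) :
    Nonempty (BasedFunctor.comp (AlgSt.ofSpMap a) (AlgSt.ofSpMap b) ≅ AlgSt.ofSpMap (a ≫ b)) := by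
  obtain ⟨e⟩ := nonempty_iso_mapOf (BasedFunctor.comp (AlgSt.ofSpMap a) (AlgSt.ofSpMap b))
  rw [mapOf_comp, mapOf_ofSpMap, mapOf_ofSpMap] at e
  exact ⟨e⟩

theorem nonempty_ofSpMap_id_iso (F : AlgSp.Sp S) :
    Nonempty (AlgSt.ofSpMap (𝟙 F) ≅ BasedFunctor.id (AlgSt.ofSp F)) := by
  exact ⟨eqToIso (Groth.StkBase.ofPshMap_id F.obj)⟩

/-- A smooth map of spaces is formally smooth. -/
theorem isFormallySmoothMor_of_locP {F G : AlgSp.Sp S} (hF : AlgSp.IsAlgSpace F)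
    (hG : AlgSp.IsAlgSpace G) {π : F ⟶ G} (h : AlgSp.LocP @Smooth π) :
    AlgSp.IsFormallySmoothMor π :=
  (Inf.smooth_iff_locP hF hG).2 fun U V a b k ha hb comm =>
    have : Smooth k.left := h a b k ha hb comm
    Groth.FlatmorThree.SmoothLift.isFormallySmoothHom_of_smooth k.left

variable {A A₀ : Type u} [CommRing A] [IsLocalRing A] [CommRing A₀] [Nontrivial A₀]
  (φ : A →+* A₀) {t : A} (s : Spec (CommRingCat.of A) ⟶ S)

/-- Infinitesimal lifting through a smooth representable functor from a space. -/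
theorem exists_lift_smooth_chart (hφ : Function.Surjective φ) (hker : RingHom.ker φ = Ideal.span {t})
    (ht : ∀ a ∈ IsLocalRing.maximalIdeal A, a * t = 0)
    (hW : FibCat.IsFibGrpd 𝒲.p) {F : AlgSp.Space S} {L : AlgSt.ofSp F.obj ⥤ᵇ 𝒲}
    (hL : AlgSt.RepByAlgSpWith (AlgSp.LocP @Smooth) L)
    (w : AlgSt.ofSp ((AlgSp.yon S).obj (Over.mk s)) ⥤ᵇ 𝒲)
    (α₀ : (AlgSp.yon S).obj (Over.mk (Spec.map (CommRingCat.ofHom φ) ≫ s)) ⟶ F.obj)
    (e₀ : BasedFunctor.comp (AlgSt.ofSpMap α₀) L ≅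
      BasedFunctor.comp (AlgSt.ofSpMap ((AlgSp.yon S).map (smallHom φ s))) w) :
    ∃ γ : (AlgSp.yon S).obj (Over.mk s) ⟶ F.obj, (AlgSp.yon S).map (smallHom φ s) ≫ γ = α₀ ∧
      Nonempty (BasedFunctor.comp (AlgSt.ofSpMap γ) L ≅ w) := by
  obtain ⟨G, e, he⟩ := repByAlgSp_fp (isFibGrpd_ofSp F.obj) hW L w (repWith_repByAlgSp1 hL)
    ⟨⟨_, AlgSp.IsAlgSpace.yon_obj (Over.mk s)⟩, BasedFunctor.id _, isEquivOver_id _⟩
  let π := mapOf (BasedFunctor.comp e (FibCat.fpFst w L))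
  let q := mapOf (BasedFunctor.comp e (FibCat.fpSnd w L))
  have hπ : AlgSp.IsFormallySmoothMor π :=
    isFormallySmoothMor_of_locP G.property (AlgSp.IsAlgSpace.yon_obj _)
      (locP_smooth_mapOf G.property (AlgSp.IsAlgSpace.yon_obj _)
        ((repWith_precomp_equiv he _).2 (repWith_fpFst L w hL)))
  obtain ⟨e', he', -, ⟨ε⟩⟩ := isEquivOver_symm he
  let Ψ := FibCat.fpLift (F := w) (G := L) (AlgSt.ofSpMap ((AlgSp.yon S).map (smallHom φ s)))
    (AlgSt.ofSpMap α₀) e₀.symm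
  let ξ := mapOf (BasedFunctor.comp Ψ e')
  have h₁ : ξ ≫ π = (AlgSp.yon S).map (smallHom φ s) := by
    rw [← mapOf_comp, ← mapOf_ofSpMap ((AlgSp.yon S).map (smallHom φ s))]
    exact mapOf_congr (whiskerLeftIso Ψ (whiskerRightIso ε (FibCat.fpFst w L)) :)
  have h₂ : ξ ≫ q = α₀ := by
    rw [← mapOf_comp, ← mapOf_ofSpMap α₀]
    exact mapOf_congr (whiskerLeftIso Ψ (whiskerRightIso ε (FibCat.fpSnd w L)) :)
  obtain ⟨δ, hδ₁, hδ₂⟩ := exists_small_lift hπ φ t hφ hker ht s ξ (𝟙 _)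
    (h₁.trans (Category.comp_id _).symm)
  refine ⟨δ ≫ q, by rw [← Category.assoc, hδ₁, h₂], ?_⟩
  obtain ⟨c₁⟩ := nonempty_ofSpMap_comp_iso δ q
  obtain ⟨c₂⟩ := nonempty_ofSpMap_comp_iso δ π
  obtain ⟨b₁⟩ := nonempty_iso_mapOf (BasedFunctor.comp e (FibCat.fpSnd w L))
  obtain ⟨b₂⟩ := nonempty_iso_mapOf (BasedFunctor.comp e (FibCat.fpFst w L))
  obtain ⟨i₁⟩ := nonempty_ofSpMap_id_iso ((AlgSp.yon S).obj (Over.mk s))
  refine ⟨(whiskerRightIso (c₁.symm.trans (whiskerLeftIso (AlgSt.ofSpMap δ) b₁.symm)) L).trans ?_⟩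
  refine (whiskerLeftIso (BasedFunctor.comp (AlgSt.ofSpMap δ) e) (FibCat.fpIso w L).symm :).trans ?_
  refine (whiskerRightIso ((whiskerLeftIso (AlgSt.ofSpMap δ) b₂).trans c₂) w :).trans ?_
  exact (whiskerRightIso ((eqToIso (congrArg AlgSt.ofSpMap hδ₂)).trans i₁) w :)

/-- A smooth morphism lifts along small extensions of Artinian local rings. -/
theorem exists_lift_of_locQ_smooth (h𝒳 : AlgSt.IsAlgStack Scheme.etalePrecoverage 𝒳)
    (h𝒴 : AlgSt.IsAlgStack Scheme.etalePrecoverage 𝒴) {f : 𝒳 ⥤ᵇ 𝒴}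
    (hf : AlgSt.LocQ (AlgSp.LocP @Smooth) f) [IsArtinianRing A] [IsLocalRing A₀]
    (hφ : Function.Surjective φ) (hker : RingHom.ker φ = Ideal.span {t})
    (ht : ∀ a ∈ IsLocalRing.maximalIdeal A, a * t = 0)
    (x : FibCat.overCat (Over.mk (Spec.map (CommRingCat.ofHom φ) ≫ s)) ⥤ᵇ 𝒳)
    (y : FibCat.overCat (Over.mk s) ⥤ᵇ 𝒴)
    (α : BasedFunctor.comp x f ≅ BasedFunctor.comp (AlgSt.overMap (smallHom φ s)) y) :
    ∃ c : FibCat.overCat (Over.mk s) ⥤ᵇ FibCat.fp f y,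
      Nonempty (BasedFunctor.comp c (FibCat.fpSnd f y) ≅ AlgSt.overMap (𝟙 (Over.mk s))) ∧
      Nonempty (BasedFunctor.comp (AlgSt.overMap (smallHom φ s)) c ≅
        FibCat.fpLift x (AlgSt.overMap (smallHom φ s)) α) := by
  let T : Over S := Over.mk s
  let T₀ : Over S := Over.mk (Spec.map (CommRingCat.ofHom φ) ≫ s)
  let i : T₀ ⟶ T := smallHom φ s
  have hX := h𝒳.isStack.1
  have hY := h𝒴.isStack.1
  have : IsArtinianRing A₀ := hφ.isArtinianRing
  have : HenselianLocalRing A₀ := henselianLocalRing_of_isArtinian A₀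
  obtain ⟨Z, -, p, g, hp, ⟨ε⟩⟩ := Groth.HenselPoint.exists_affine_chart le_rfl h𝒳
    (Spec.map (CommRingCat.ofHom φ) ≫ s) x
  let p' := BasedFunctor.comp (AlgSt.toOverCat Z) p
  have hp' : AlgSt.RepByAlgSpWith (AlgSp.LocP @Smooth) p' :=
    (repWith_precomp_equiv (isEquivOver_toOverCat Z) p).2 hp
  let y' := BasedFunctor.comp (AlgSt.toOverCat T) y
  have hr : AlgSt.RepByAlgSp1 (BasedFunctor.comp p' f) :=
    (repByAlgSp1_precomp_iff (isEquivOver_toOverCat Z) (BasedFunctor.comp p f)).2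
      ((repByAlgSp1_diag_iff hY).1 h𝒴.diag Z (BasedFunctor.comp p f))
  obtain ⟨F, e₁, he₁⟩ := repByAlgSp_fp (isFibGrpd_ofSp _) hY (BasedFunctor.comp p' f) y' hr
    ⟨⟨_, AlgSp.IsAlgSpace.yon_obj T⟩, BasedFunctor.id _, isEquivOver_id _⟩
  let e := BasedFunctor.comp e₁ (fpSwap y' (BasedFunctor.comp p' f))
  have he : FibCat.IsEquivOver e := isEquivOver_comp he₁ (isEquivOver_fpSwap _ _)
  let L := BasedFunctor.comp e (fpPre p' (BasedFunctor.id _) f y')
  have hL : AlgSt.RepByAlgSpWith (AlgSp.LocP @Smooth) L :=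
    (repWith_precomp_equiv he _).2 (repWith_fpPre_left p' f y' hp')
  let π := mapOf (BasedFunctor.comp L (FibCat.fpSnd f y'))
  have hπ : AlgSp.IsFormallySmoothMor π :=
    isFormallySmoothMor_of_locP F.property (AlgSp.IsAlgSpace.yon_obj _)
      (prop_snd_of_locQSp isSmoothLocalST_smooth stableBaseChange_locP hX hY (locQSp_of_locQ hf)
        (V' := ⟨_, AlgSp.IsAlgSpace.yon_obj T⟩) L hL)
  obtain ⟨e', he', -, ⟨εe⟩⟩ := isEquivOver_symm he
  let g' : AlgSt.ofSp ((AlgSp.yon S).obj T₀) ⥤ᵇ AlgSt.ofSp ((AlgSp.yon S).obj Z) :=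
    AlgSt.ofSpMap ((AlgSp.yon S).map g)
  let ι : BasedFunctor.comp g' (BasedFunctor.comp p' f) ≅
      BasedFunctor.comp (AlgSt.ofSpMap ((AlgSp.yon S).map i)) y' :=
    (whiskerLeftIso (AlgSt.toOverCat T₀) ((whiskerRightIso ε f).trans α) :)
  let Ψ := FibCat.fpLift (F := BasedFunctor.comp p' f) (G := y') g'
    (AlgSt.ofSpMap ((AlgSp.yon S).map i)) ι
  let ξ := mapOf (BasedFunctor.comp Ψ e')
  have h₁ : ξ ≫ π = (AlgSp.yon S).map i := by
    rw [← mapOf_comp, ← mapOf_ofSpMap ((AlgSp.yon S).map i)]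
    exact mapOf_congr (whiskerLeftIso Ψ (whiskerRightIso εe (FibCat.fpSnd _ y')) :)
  obtain ⟨γ, hγ₁, hγ₂⟩ := exists_small_lift hπ φ t hφ hker ht s ξ (𝟙 _)
    (h₁.trans (Category.comp_id _).symm)
  let M := fpPre p' (AlgSt.toOverCat T) f y
  refine ⟨BasedFunctor.comp (AlgSt.ofOverCat T)
    (BasedFunctor.comp (BasedFunctor.comp (AlgSt.ofSpMap γ) e) M), ?_, ?_⟩
  · obtain ⟨c⟩ := nonempty_ofSpMap_comp_iso γ π
    obtain ⟨b⟩ := nonempty_iso_mapOf (BasedFunctor.comp L (FibCat.fpSnd f y'))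
    exact ⟨(whiskerLeftIso (AlgSt.ofOverCat T) (whiskerRightIso
      (((whiskerLeftIso (AlgSt.ofSpMap γ) b).trans c).trans (eqToIso (congrArg AlgSt.ofSpMap hγ₂)))
      (AlgSt.toOverCat T)) :)⟩
  · obtain ⟨c⟩ := nonempty_ofSpMap_comp_iso ((AlgSp.yon S).map i) γ
    obtain ⟨b⟩ := nonempty_iso_mapOf (BasedFunctor.comp Ψ e')
    have θ : BasedFunctor.comp (AlgSt.ofSpMap ((AlgSp.yon S).map i))
        (BasedFunctor.comp (BasedFunctor.comp (AlgSt.ofSpMap γ) e) M) ≅ BasedFunctor.comp Ψ M :=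
      (whiskerRightIso (c.trans ((eqToIso (congrArg AlgSt.ofSpMap hγ₁)).trans b.symm))
        (BasedFunctor.comp e M) :).trans (whiskerLeftIso Ψ (whiskerRightIso εe M) :)
    refine ⟨(whiskerLeftIso (AlgSt.ofOverCat T₀) θ :).trans ?_⟩
    refine fpIsoMk ε (Iso.refl _) fun z => ?_
    simp [M, Ψ, ι, g', p', y', i, fpPre, FibCat.fpLift]
    rfl

/-- A morphism of etale algebraic stacks locally of finite type with locally Noetherian target that
lifts along small extensions is smooth. -/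
theorem locQ_smooth_of_lifting (h𝒳 : AlgSt.IsAlgStack Scheme.etalePrecoverage 𝒳)
    (h𝒴 : AlgSt.IsAlgStack Scheme.etalePrecoverage 𝒴)
    (hn : AlgSt.SmoothLocally (fun T => IsLocallyNoetherian T) 𝒴) {f : 𝒳 ⥤ᵇ 𝒴}
    (hft : AlgSt.LocQ (AlgSp.LocP @LocallyOfFiniteType) f)
    (hlift : ∀ (A A₀ : Type u) [CommRing A] [IsArtinianRing A] [IsLocalRing A] [CommRing A₀]
      [IsLocalRing A₀] (φ : A →+* A₀) (_ : Function.Surjective φ)
      (_ : IsSimpleModule A (RingHom.ker φ)) (sA : Spec (CommRingCat.of A) ⟶ S)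
      (x : FibCat.overCat (Over.mk (Spec.map (CommRingCat.ofHom φ) ≫ sA)) ⥤ᵇ 𝒳)
      (y : FibCat.overCat (Over.mk sA) ⥤ᵇ 𝒴)
      (α : BasedFunctor.comp x f ≅ BasedFunctor.comp (AlgSt.overMap (smallHom φ sA)) y),
      ∃ c : FibCat.overCat (Over.mk sA) ⥤ᵇ FibCat.fp f y,
        Nonempty (BasedFunctor.comp c (FibCat.fpSnd f y) ≅ AlgSt.overMap (𝟙 (Over.mk sA))) ∧
        Nonempty (BasedFunctor.comp (AlgSt.overMap (smallHom φ sA)) c ≅
          FibCat.fpLift x (AlgSt.overMap (smallHom φ sA)) α)) :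
    AlgSt.LocQ (AlgSp.LocP @Smooth) f := by
  have hX := h𝒳.isStack.1
  have hY := h𝒴.isStack.1
  obtain ⟨V, y₀, hy₀, hys₀⟩ := h𝒴.atlas
  obtain ⟨U, x₀, hx₀, hxs₀⟩ := h𝒳.atlas
  have : IsLocallyNoetherian V.left := hn V y₀ hy₀
  let y' := BasedFunctor.comp (AlgSt.toOverCat V) y₀
  let x' := BasedFunctor.comp (AlgSt.toOverCat U) x₀
  have hx' := (repWith_precomp_equiv (isEquivOver_toOverCat U) x₀).2 hx₀
  have hxs' := (repWith_precomp_equiv (isEquivOver_toOverCat U) x₀).2 hxs₀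
  have hy' := (repWith_precomp_equiv (isEquivOver_toOverCat V) y₀).2 hy₀
  have hys' := (repWith_precomp_equiv (isEquivOver_toOverCat V) y₀).2 hys₀
  have hr : AlgSt.RepByAlgSp1 (BasedFunctor.comp x' f) :=
    (repByAlgSp1_precomp_iff (isEquivOver_toOverCat U) (BasedFunctor.comp x₀ f)).2
      ((repByAlgSp1_diag_iff hY).1 h𝒴.diag U (BasedFunctor.comp x₀ f))
  obtain ⟨F, e₁, he₁⟩ := repByAlgSp_fp (isFibGrpd_ofSp _) hY (BasedFunctor.comp x' f) y' hr
    ⟨⟨_, AlgSp.IsAlgSpace.yon_obj V⟩, BasedFunctor.id _, isEquivOver_id _⟩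
  let e := BasedFunctor.comp e₁ (fpSwap y' (BasedFunctor.comp x' f))
  have he : FibCat.IsEquivOver e := isEquivOver_comp he₁ (isEquivOver_fpSwap _ _)
  let L := BasedFunctor.comp e (fpPre x' (BasedFunctor.id _) f y')
  have hL : AlgSt.RepByAlgSpWith (AlgSp.LocP @Smooth) L :=
    (repWith_precomp_equiv he _).2 (repWith_fpPre_left x' f y' hx')
  have hLs : AlgSt.RepByAlgSpWith AlgSp.IsSurjectiveMor L :=
    (repWith_precomp_equiv he _).2 (repWith_fpPre_left x' f y' hxs')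
  let π := mapOf (BasedFunctor.comp L (FibCat.fpSnd f y'))
  obtain ⟨bπ⟩ := nonempty_iso_mapOf (BasedFunctor.comp L (FibCat.fpSnd f y'))
  have hπft : AlgSp.LocP @LocallyOfFiniteType π :=
    prop_snd_of_locQSp isSmoothLocalST_lft stableBaseChange_locP hX hY (locQSp_of_locQ hft)
      (V' := ⟨_, AlgSp.IsAlgSpace.yon_obj V⟩) L hL
  have hN : AlgSp.IsLocNoethSp ((AlgSp.yon S).obj V) :=
    ⟨V, (AlgSp.yon S).map (𝟙 V), (AlgSp.repWith_yon_map_iff _ _).2 (inferInstanceAs (Etale (𝟙 _))),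
      (AlgSp.repWith_yon_map_iff _ _).2 (inferInstanceAs (Surjective (𝟙 _))), ‹_›⟩
  have hW : FibCat.IsFibGrpd (FibCat.fp f y').p := isFibGrpd_fp hX (isFibGrpd_ofSp _) hY
  have hπ : AlgSp.LocP @Smooth π := by
    refine (smooth_iff_small_lifts F.property (AlgSp.IsAlgSpace.yon_obj V) π hN hπft).2
      fun B' B _ _ _ _ _ _ φ hφ hkt s α₀ β _ hw => ?_
    obtain ⟨t, hker, ht⟩ := hkt
    let T : Over S := Over.mk s
    let T₀ : Over S := Over.mk (Spec.map (CommRingCat.ofHom φ) ≫ s)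
    let i : T₀ ⟶ T := smallHom φ s
    by_cases ht0 : t = 0
    · have hb : Function.Bijective φ := ⟨(RingHom.injective_iff_ker_eq_bot φ).2 (by
        rw [hker, ht0, Ideal.span_singleton_eq_bot]), hφ⟩
      have : IsIso (CommRingCat.ofHom φ) :=
        (inferInstance : IsIso (RingEquiv.ofBijective φ hb).toCommRingCatIso.hom)
      have : IsIso ((Over.forget S).map i) := inferInstanceAs (IsIso (Spec.map (CommRingCat.ofHom φ)))
      have : IsIso i := isIso_of_reflects_iso i (Over.forget S)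
      refine ⟨inv ((AlgSp.yon S).map i) ≫ α₀, IsIso.hom_inv_id_assoc _ _, ?_⟩
      rw [Category.assoc, hw, IsIso.inv_hom_id_assoc]
    obtain ⟨c₀⟩ := nonempty_ofSpMap_comp_iso α₀ π
    obtain ⟨c₁⟩ := nonempty_ofSpMap_comp_iso ((AlgSp.yon S).map i) β
    let ζ : BasedFunctor.comp (BasedFunctor.comp (AlgSt.ofSpMap α₀) L) (FibCat.fpSnd f y') ≅
        BasedFunctor.comp (AlgSt.ofSpMap ((AlgSp.yon S).map i)) (AlgSt.ofSpMap β) :=
      ((whiskerLeftIso (AlgSt.ofSpMap α₀) bπ :).trans c₀).trans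
        ((eqToIso (congrArg AlgSt.ofSpMap hw)).trans c₁.symm)
    let ρ : BasedFunctor.comp (BasedFunctor.comp (BasedFunctor.comp (AlgSt.ofSpMap α₀) L)
        (FibCat.fpFst f y')) f ≅
        BasedFunctor.comp (BasedFunctor.comp (AlgSt.ofSpMap ((AlgSp.yon S).map i))
          (AlgSt.ofSpMap β)) y' :=
      (whiskerLeftIso (BasedFunctor.comp (AlgSt.ofSpMap α₀) L) (FibCat.fpIso f y') :).trans
        (whiskerRightIso ζ y')
    let x := BasedFunctor.comp (AlgSt.ofOverCat T₀)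
      (BasedFunctor.comp (BasedFunctor.comp (AlgSt.ofSpMap α₀) L) (FibCat.fpFst f y'))
    let b := BasedFunctor.comp (AlgSt.ofOverCat T) (AlgSt.ofSpMap β)
    obtain ⟨c, ⟨σ⟩, ⟨τ⟩⟩ := hlift B' B φ hφ (isSimpleModule_of_generator φ ht0 hker ht) s x
      (BasedFunctor.comp b y') (whiskerLeftIso (AlgSt.ofOverCat T₀) ρ :)
    let P := fpPre (BasedFunctor.id 𝒳) b f y'
    let w := BasedFunctor.comp (AlgSt.toOverCat T) (BasedFunctor.comp c P)
    have e₀ : BasedFunctor.comp (AlgSt.ofSpMap α₀) L ≅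
        BasedFunctor.comp (AlgSt.ofSpMap ((AlgSp.yon S).map i)) w := by
      refine Iso.trans ?_ (whiskerLeftIso (AlgSt.toOverCat T₀) (whiskerRightIso τ P).symm :)
      refine fpIsoMk (Iso.refl _) ζ fun z => ?_
      simp [P, b, x, ρ, fpPre, FibCat.fpLift]
      rfl
    obtain ⟨γ, hγ, ⟨δ⟩⟩ := exists_lift_smooth_chart φ s hφ hker ht hW hL w α₀ e₀
    refine ⟨γ, hγ, ?_⟩
    obtain ⟨c₂⟩ := nonempty_ofSpMap_comp_iso γ π
    obtain ⟨c₃⟩ := nonempty_ofSpMap_comp_iso ((AlgSp.yon S).map (𝟙 T)) β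
    rw [← Category.id_comp β, ← (AlgSp.yon S).map_id]
    refine eq_of_iso_ofSpMap (c₂.symm.trans ?_)
    refine (whiskerLeftIso (AlgSt.ofSpMap γ) bπ.symm :).trans ?_
    refine (whiskerRightIso δ (FibCat.fpSnd f y') :).trans ?_
    refine (whiskerLeftIso (AlgSt.toOverCat T) (whiskerRightIso σ b) :).trans ?_
    exact c₃
  obtain ⟨R, r, hr, hrs⟩ := F.property.atlas
  obtain ⟨k, hk⟩ := (AlgSp.yon S).map_surjective (r ≫ π)
  have hr₁ : AlgSp.LocP @Smooth r := locP_of_repWith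
    (Groth.AlgSpBasic.repWith_mono (Q := @Smooth)
      (fun _ _ g (hg : Etale g) => (inferInstance : Smooth g)) hr)
  have hks : AlgSp.LocP @Smooth ((AlgSp.yon S).map k) := by
    rw [hk]
    exact locP_comp (AlgSp.IsAlgSpace.yon_obj R) F.property (AlgSp.IsAlgSpace.yon_obj V) hr₁ hπ
  let R' : AlgSp.Space S := ⟨_, AlgSp.IsAlgSpace.yon_obj R⟩
  have hx₁ : AlgSt.RepByAlgSpWith (AlgSp.LocP @Smooth) (AlgSt.ofSpMap r) :=
    repWith_ofPshMap_of_stable (F := R') (G := F) stableBaseChange_locP r hr₁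
  have hx₂ : AlgSt.RepByAlgSpWith AlgSp.IsSurjectiveMor (AlgSt.ofSpMap r) :=
    repByAlgSpWith_surjective_of_repWith hrs
  let x'' := BasedFunctor.comp (AlgSt.ofOverCat R)
    (BasedFunctor.comp (BasedFunctor.comp (AlgSt.ofSpMap r) L) (FibCat.fpFst f y'))
  have hs₁ : AlgSt.RepByAlgSpWith (AlgSp.LocP @Smooth) x'' :=
    (repWith_precomp_equiv (isEquivOver_ofOverCat R) _).2
      (repWith_comp' (isFibGrpd_ofSp _) hW stableBaseChange_locP stableComp_locP
        descendsAlongAtlas_locP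
        (repWith_comp' (isFibGrpd_ofSp _) (isFibGrpd_ofSp _) stableBaseChange_locP stableComp_locP
          descendsAlongAtlas_locP hx₁ hL)
        (repWith_fpFst y' f hy'))
  have hs₂ : AlgSt.RepByAlgSpWith AlgSp.IsSurjectiveMor x'' :=
    (repWith_precomp_equiv (isEquivOver_ofOverCat R) _).2
      (repWith_comp' (isFibGrpd_ofSp _) hW stableBaseChange_surjective stableComp_surjective
        descendsAlongAtlas_surjective
        (repWith_comp' (isFibGrpd_ofSp _) (isFibGrpd_ofSp _) stableBaseChange_surjective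
          stableComp_surjective descendsAlongAtlas_surjective hx₂ hLs)
        (repWith_fpFst y' f hys'))
  obtain ⟨c₄⟩ := nonempty_ofSpMap_comp_iso r π
  refine ⟨R, V, x'', y₀, k, ?_, hs₁, hs₂, hy₀, hks⟩
  let χ : BasedFunctor.comp (BasedFunctor.comp (BasedFunctor.comp (AlgSt.ofSpMap r) L)
      (FibCat.fpFst f y')) f ≅ BasedFunctor.comp (AlgSt.ofSpMap ((AlgSp.yon S).map k)) y' :=
    (whiskerLeftIso (BasedFunctor.comp (AlgSt.ofSpMap r) L) (FibCat.fpIso f y') :).trans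
      (whiskerRightIso (((whiskerLeftIso (AlgSt.ofSpMap r) bπ :).trans c₄).trans
        (eqToIso (congrArg AlgSt.ofSpMap hk.symm))) y' :)
  exact (whiskerLeftIso (AlgSt.ofOverCat R) χ :)

end Groth.StackSmooth
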